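import Groth.Agent.LocAcycBCLib.Alg
import Groth.Agent.StrictHensBCLib.IndQf
import Groth.Agent.StrictHensBCLib.Tensor
import Groth.Agent.EtAcycLib.Crit
import Groth.Agent.S0537
import Mathlib.AlgebraicGeometry.PullbackCarrier
import Mathlib.AlgebraicGeometry.Morphisms.Integral
import Mathlib.AlgebraicGeometry.Morphisms.QuasiFinite

/-! Local acyclicity is stable under integral and locally quasi-finite base change. -/

set_option autoImplicit false
set_option linter.unusedSectionVars false
set_option linter.style.haveILetI false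
set_option backward.isDefEq.respectTransparency false
set_option backward.isDefEq.respectTransparency.types false
set_option maxHeartbeats 2000000
set_option synthInstance.maxHeartbeats 400000

universe u

open CategoryTheory CategoryTheory.Limits AlgebraicGeometry Opposite TensorProduct
open CategoryTheory.Abelian

namespace LocAcycBCLib

/-- The local ring of a chart at a prime. -/
theorem exists_chart {Y : Scheme.{u}} {R : CommRingCat.{u}} (j : Spec R ⟶ Y) [IsOpenImmersion j] (p : Ideal R)
    [p.IsPrime] (y : Y) (hy : j (⟨p, ‹_›⟩ : PrimeSpectrum R) = y) :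
    ∃ e : Y.presheaf.stalk y ≃+* Localization.AtPrime p,
      Spec.map (CommRingCat.ofHom e.toRingHom) ≫ Y.fromSpecStalk y =
        Spec.map (CommRingCat.ofHom (algebraMap R (Localization.AtPrime p))) ≫ j := by
  subst hy
  let q : Spec R := (⟨p, ‹_›⟩ : PrimeSpectrum R)
  let e : Y.presheaf.stalk (j q) ≅ CommRingCat.of (Localization.AtPrime p) :=
    asIso (j.stalkMap q) ≪≫ Spec.stalkIso _ _
  refine ⟨e.commRingCatIsoToRingEquiv, ?_⟩
  show Spec.map (j.stalkMap q ≫ (Spec.stalkIso _ _).hom) ≫ Y.fromSpecStalk (j q) = _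
  rw [Spec.map_comp, Category.assoc, Scheme.SpecMap_stalkMap_fromSpecStalk, Spec.fromSpecStalk_eq', ← Category.assoc,
    ← Spec.map_comp]
  refine congrArg (fun m => Spec.map m ≫ j) ?_
  ext a
  exact (StructureSheaf.stalkIso R q).symm.commutes a

/-- Transport of a strict henselization along an isomorphism of local rings. -/
theorem exists_sh_of_equiv {R R' : Type u} [CommRing R] [IsLocalRing R] [CommRing R'] [IsLocalRing R']
    (e : R' ≃+* R) (T : Type u) [CommRing T] [IsLocalRing T] [Algebra R T] [IsLocalHom (algebraMap R T)]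
    [hT : Hensel.IsStrictHenselization R T] :
    ∃ (_ : Algebra R' T) (_ : IsLocalHom (algebraMap R' T)) (_ : Hensel.IsStrictHenselization R' T),
      algebraMap R' T = (algebraMap R T).comp e.toRingHom := by
  letI alg : Algebra R' T := ((algebraMap R T).comp e.toRingHom).toAlgebra
  haveI hl : IsLocalHom (algebraMap R' T) := ⟨fun x hx => by
    have h1 : IsUnit (e x) := IsUnit.of_map (algebraMap R T) _ hx
    exact (isUnit_map_iff e x).1 h1⟩
  refine ⟨alg, hl, ⟨hT.henselian, ⟨hT.isSepClosure.sep_closed, ?_⟩, fun U _ _ f _ τ hτ => ?_⟩, rfl⟩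
  · haveI := hT.isSepClosure.separable
    refine Algebra.IsSeparable.of_equiv_equiv (A₁ := IsLocalRing.ResidueField R) (B₁ := IsLocalRing.ResidueField T)
      (IsLocalRing.ResidueField.mapEquiv e.symm) (RingEquiv.refl _) (RingHom.ext fun z => ?_)
    obtain ⟨r, rfl⟩ := IsLocalRing.residue_surjective z
    show IsLocalRing.residue T (algebraMap R T (e (e.symm r))) = _
    rw [e.apply_symm_apply]
    rfl
  · haveI : IsLocalHom (f.comp e.symm.toRingHom) := ⟨fun x hx => by
      have h1 : IsUnit (e.symm x) := IsUnit.of_map f _ hx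
      exact (isUnit_map_iff e.symm x).1 h1⟩
    obtain ⟨g, ⟨hg, hg'⟩, hu⟩ := hT.universal U (f.comp e.symm.toRingHom) τ (RingHom.ext fun z => by
      obtain ⟨r, rfl⟩ := IsLocalRing.residue_surjective z
      have h1 := RingHom.congr_fun hτ (IsLocalRing.residue R' (e.symm r))
      simp only [RingHom.comp_apply, IsLocalRing.ResidueField.map_residue] at h1 ⊢
      rw [show algebraMap R' T (e.symm r) = algebraMap R T r from congrArg (algebraMap R T) (e.apply_symm_apply r)] at h1
      exact h1)
    refine ⟨g, ⟨RingHom.ext fun r => ?_, hg'⟩, fun g' ⟨h1, h2⟩ => hu g' ⟨RingHom.ext fun r => ?_, h2⟩⟩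
    · show g (algebraMap R T (e r)) = f r
      rw [← RingHom.comp_apply g, hg]
      exact congrArg f (e.symm_apply_apply r)
    · show g' (algebraMap R T r) = f (e.symm r)
      rw [← h1]
      show _ = g' (algebraMap R T (e (e.symm r)))
      rw [e.apply_symm_apply]

/-- Cohomology of constant sheaves is invariant under isomorphisms of schemes. -/
theorem nonempty_H_const_equiv {X Y : Scheme.{u}} (e : X ≅ Y) (n q : ℕ) :
    Nonempty (EtCoh.H X (EtCoh.const X (ZMod n)) q ≃+ EtCoh.H Y (EtCoh.const Y (ZMod n)) q) := by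
  let A : Over Y := Over.mk e.hom
  let B : Over Y := Over.mk (𝟙 Y)
  let φ : A ≅ B := Over.isoMk e (Category.comp_id _)
  let F := EtCoh.const Y (ZMod n)
  let h1 : EtCoh.H X ((EtCoh.pull e.hom).obj F) q ≃+ EtCoh.H X (EtCoh.const X (ZMod n)) q :=
    AddEquiv.ofBijective ((Ext.mk₀ (EtCore.pullConst e.hom (ZMod n)).hom).postcomp _ (add_zero q))
      (EtAcycLib.bijective_mk₀_iso_postcomp (EtCore.pullConst e.hom (ZMod n)) q)
  let h2 : EtCoh.H Y ((EtCoh.pull (𝟙 Y)).obj F) q ≃+ EtCoh.H Y (EtCoh.const Y (ZMod n)) q :=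
    AddEquiv.ofBijective ((Ext.mk₀ (EtCore.pullConst (𝟙 Y) (ZMod n)).hom).postcomp _ (add_zero q))
      (EtAcycLib.bijective_mk₀_iso_postcomp (EtCore.pullConst (𝟙 Y) (ZMod n)) q)
  let h3 : EtCoh.H Y ((EtCoh.pull (𝟙 Y)).obj F) q ≃+ EtCoh.H X ((EtCoh.pull e.hom).obj F) q :=
    AddEquiv.ofBijective (DescSecLib.etSys.Hmap F q φ.hom) (EtAcycLib.bijective_Hmap_of_iso F q φ)
  exact ⟨(h1.symm.trans h3.symm).trans h2⟩

theorem eq_of_spec {Y : Scheme.{u}} {R : CommRingCat.{u}} {T : Type u} [CommRing T] (j : Spec R ⟶ Y) [Mono j]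
    (a b : R →+* T)
    (h : Spec.map (CommRingCat.ofHom a) ≫ j = Spec.map (CommRingCat.ofHom b) ≫ j) : a = b :=
  congrArg CommRingCat.Hom.hom (Spec.map_injective ((cancel_mono j).1 h))

open IsLocalRing in
/-- Local acyclicity is inherited by base changes along morphisms that are locally a union of quasi-finite
subalgebras of finite type. -/
theorem isLocallyAcyclic_baseChange {X S S' : Scheme.{u}} (f : X ⟶ S) (g : S' ⟶ S)
    (hg : ∀ s' : S', ∃ (U : S.Opens) (V : S'.Opens) (_ : IsAffineOpen U) (_ : IsAffineOpen V)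
      (e : V ≤ g ⁻¹ᵁ U), s' ∈ V ∧
      (letI := (g.appLE U V e).hom.toAlgebra
       ∀ s : Finset Γ(S', V), ∃ B₀ : Subalgebra Γ(S, U) Γ(S', V), (↑s : Set Γ(S', V)) ⊆ ↑B₀ ∧
        Algebra.FiniteType Γ(S, U) ↥B₀ ∧ Algebra.QuasiFinite Γ(S, U) ↥B₀))
    (hf : EtRest.IsLocallyAcyclic f) : EtRest.IsLocallyAcyclic (pullback.snd f g) := by
  intro z RS' RX' _ _ _ _ _ _ hS' _ _ hX' _ _ hcompat Ω _ _ _ n hn
  -- charts
  let s' := (pullback.snd f g).base z
  let x := (pullback.fst f g).base z
  have hfg : f.base x = g.base s' := by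
    show (pullback.fst f g ≫ f).base z = (pullback.snd f g ≫ g).base z
    rw [pullback.condition]
  obtain ⟨U, V, hU, hV, eV, hsV, hB⟩ := hg s'
  obtain ⟨W, hW, hxW, eW⟩ := exists_isAffineOpen_mem_and_subset (x := x) (U := f ⁻¹ᵁ U)
    (show f.base x ∈ U by rw [hfg]; exact eV hsV)
  let A := Γ(S, U)
  let B := Γ(S', V)
  let C := Γ(X, W)
  letI : Algebra A B := (g.appLE U V eV).hom.toAlgebra
  letI : Algebra A C := (f.appLE U W eW).hom.toAlgebra
  have sqB : Spec.map (CommRingCat.ofHom (algebraMap A B)) ≫ hU.fromSpec = hV.fromSpec ≫ g :=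
    hU.SpecMap_appLE_fromSpec g hV eV
  have sqC : Spec.map (CommRingCat.ofHom (algebraMap A C)) ≫ hU.fromSpec = hW.fromSpec ≫ f :=
    hU.SpecMap_appLE_fromSpec f hW eW
  obtain ⟨Φ, hΦi, hΦ1, hΦ2, qD, hqD⟩ : ∃ Φ : Spec (CommRingCat.of ((B : Type u) ⊗[(A : Type u)] (C : Type u))) ⟶ pullback f g,
      IsOpenImmersion Φ ∧
      (Φ ≫ pullback.fst f g = Spec.map (CommRingCat.ofHom
        (Algebra.TensorProduct.includeRight : C →ₐ[A] (B : Type u) ⊗[(A : Type u)] (C : Type u)).toRingHom) ≫ hW.fromSpec) ∧
      (Φ ≫ pullback.snd f g = Spec.map (CommRingCat.ofHom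
        (Algebra.TensorProduct.includeLeftRingHom : (B : Type u) →+* (B : Type u) ⊗[(A : Type u)] (C : Type u))) ≫ hV.fromSpec) ∧
      ∃ q : PrimeSpectrum ((B : Type u) ⊗[(A : Type u)] (C : Type u)), Φ q = z := by
    let I := (pullbackSpecIso A B C).symm ≪≫ pullbackSymmetry _ _
    have h1 : z ∈ Set.range (pullback.map _ _ f g hW.fromSpec hV.fromSpec hU.fromSpec sqC sqB) := by
      rw [Scheme.Pullback.range_map]
      exact ⟨by rw [hW.range_fromSpec]; exact hxW, by rw [hV.range_fromSpec]; exact hsV⟩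
    obtain ⟨w, hw⟩ := h1
    refine ⟨I.hom ≫ pullback.map _ _ f g hW.fromSpec hV.fromSpec hU.fromSpec sqC sqB, inferInstance, by simp [I],
      by simp [I], I.inv.base w, ?_⟩
    rw [← Scheme.Hom.comp_apply, Iso.inv_hom_id_assoc]
    exact hw
  haveI := hΦi
  let pD : Ideal ((B : Type u) ⊗[(A : Type u)] (C : Type u)) := qD.asIdeal
  let pB : Ideal B := pD.comap Algebra.TensorProduct.includeLeftRingHom
  let pC : Ideal C := pD.comap (Algebra.TensorProduct.includeRight : C →ₐ[A] (B : Type u) ⊗[(A : Type u)] (C : Type u)).toRingHom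
  let pA : Ideal A := pB.comap (algebraMap A B)
  haveI : pD.IsPrime := qD.isPrime
  haveI : pB.IsPrime := Ideal.IsPrime.comap _
  haveI : pC.IsPrime := Ideal.IsPrime.comap _
  haveI : pA.IsPrime := Ideal.IsPrime.comap _
  haveI : pB.LiesOver pA := ⟨rfl⟩
  haveI : pD.LiesOver pB := ⟨rfl⟩
  have hpC : pC.comap (algebraMap A C) = pA := by
    show (pD.comap _).comap _ = (pD.comap _).comap _
    rw [Ideal.comap_comap, Ideal.comap_comap]
    congr 1
    ext a
    show (1 : B) ⊗ₜ[(A : Type u)] algebraMap A C a = algebraMap A B a ⊗ₜ[(A : Type u)] (1 : C)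
    rw [Algebra.algebraMap_eq_smul_one, Algebra.algebraMap_eq_smul_one, smul_tmul]
  haveI : pC.LiesOver pA := ⟨hpC.symm⟩
  have hqB : hV.fromSpec (⟨pB, inferInstance⟩ : PrimeSpectrum B) = s' :=
    (congrArg (fun m => m.base qD) hΦ2).symm.trans (congrArg (pullback.snd f g).base hqD)
  have hqC : hW.fromSpec (⟨pC, inferInstance⟩ : PrimeSpectrum C) = x :=
    (congrArg (fun m => m.base qD) hΦ1).symm.trans (congrArg (pullback.fst f g).base hqD)
  have hqA : hU.fromSpec (⟨pA, inferInstance⟩ : PrimeSpectrum A) = f.base x := by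
    rw [hfg, ← hqB]
    exact congrArg (fun m => m.base (⟨pB, inferInstance⟩ : PrimeSpectrum B)) sqB
  obtain ⟨eA, heA⟩ := exists_chart hU.fromSpec pA (f.base x) hqA
  obtain ⟨eB, heB⟩ := exists_chart hV.fromSpec pB s' hqB
  obtain ⟨eC, heC⟩ := exists_chart hW.fromSpec pC x hqC
  obtain ⟨eD, heD⟩ := exists_chart Φ pD z hqD
  -- the given strict henselizations, over the rings of the charts
  obtain ⟨aB, _, hshB, hB'⟩ := exists_sh_of_equiv eB.symm RS'
  obtain ⟨aD, _, hshD, hD'⟩ := exists_sh_of_equiv eD.symm RX'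
  letI := aB
  letI := aD
  letI : Algebra B RS' := ((algebraMap (Localization.AtPrime pB) RS').comp (algebraMap B (Localization.AtPrime pB))).toAlgebra
  haveI : IsScalarTower B (Localization.AtPrime pB) RS' := IsScalarTower.of_algebraMap_eq fun _ => rfl
  letI : Algebra ((B : Type u) ⊗[(A : Type u)] (C : Type u)) RX' := ((algebraMap (Localization.AtPrime pD) RX').comp
    (algebraMap _ (Localization.AtPrime pD))).toAlgebra
  haveI : IsScalarTower ((B : Type u) ⊗[(A : Type u)] (C : Type u)) (Localization.AtPrime pD) RX' :=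
    IsScalarTower.of_algebraMap_eq fun _ => rfl
  have spB : Spec.map (CommRingCat.ofHom (algebraMap B RS')) ≫ hV.fromSpec =
      Spec.map (CommRingCat.ofHom (algebraMap (S'.presheaf.stalk s') RS')) ≫ S'.fromSpecStalk s' := by
    have e1 : algebraMap (S'.presheaf.stalk s') RS' = (algebraMap (Localization.AtPrime pB) RS').comp eB.toRingHom := by
      rw [hB', RingHom.comp_assoc, show eB.symm.toRingHom.comp eB.toRingHom = RingHom.id _ from RingHom.ext eB.symm_apply_apply, RingHom.comp_id]
    rw [e1, CommRingCat.ofHom_comp, Spec.map_comp, Category.assoc, heB, ← Category.assoc, ← Spec.map_comp,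
      ← CommRingCat.ofHom_comp]
    rfl
  have spD : Spec.map (CommRingCat.ofHom (algebraMap ((B : Type u) ⊗[(A : Type u)] (C : Type u)) RX')) ≫ Φ =
      Spec.map (CommRingCat.ofHom (algebraMap ((pullback f g).presheaf.stalk z) RX')) ≫
        (pullback f g).fromSpecStalk z := by
    have e1 : algebraMap ((pullback f g).presheaf.stalk z) RX' =
        (algebraMap (Localization.AtPrime pD) RX').comp eD.toRingHom := by
      rw [hD', RingHom.comp_assoc, show eD.symm.toRingHom.comp eD.toRingHom = RingHom.id _ from RingHom.ext eD.symm_apply_apply, RingHom.comp_id]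
    rw [e1, CommRingCat.ofHom_comp, Spec.map_comp, Category.assoc, heD, ← Category.assoc, ← Spec.map_comp,
      ← CommRingCat.ofHom_comp]
    rfl
  have hψB : (algebraMap RS' RX').comp (algebraMap B RS') =
      (algebraMap ((B : Type u) ⊗[(A : Type u)] (C : Type u)) RX').comp Algebra.TensorProduct.includeLeftRingHom := by
    refine eq_of_spec hV.fromSpec _ _ ?_
    rw [CommRingCat.ofHom_comp, CommRingCat.ofHom_comp, Spec.map_comp, Spec.map_comp, Category.assoc, Category.assoc,
      ← hΦ2, reassoc_of% spD, spB, ← Scheme.SpecMap_stalkMap_fromSpecStalk, ← Category.assoc, ← Category.assoc,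
      ← Spec.map_comp, ← Spec.map_comp, ← CommRingCat.ofHom_comp]
    refine congrArg (fun m => Spec.map m ≫ S'.fromSpecStalk s') ?_
    rw [hcompat]
    rfl
  -- strict henselizations below
  obtain ⟨RS, _, _, aS, _, hshS⟩ := Groth.Agent.S0537.result (Localization.AtPrime pA)
  obtain ⟨RX, _, _, aX, _, hshX⟩ := Groth.Agent.S0537.result (Localization.AtPrime pC)
  haveI := hS'.henselian
  haveI := hS'.isSepClosure.sep_closed
  haveI := hX'.henselian
  haveI := hX'.isSepClosure.sep_closed
  haveI : HenselianLocalRing RS := hshS.henselian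
  let φB : Localization.AtPrime pA →+* Localization.AtPrime pB := Localization.localRingHom pA pB (algebraMap A B) rfl
  let φC : Localization.AtPrime pA →+* Localization.AtPrime pC := Localization.localRingHom pA pC (algebraMap A C) hpC.symm
  let φD : Localization.AtPrime pC →+* Localization.AtPrime pD := Localization.localRingHom pC pD
    (Algebra.TensorProduct.includeRight : C →ₐ[A] (B : Type u) ⊗[(A : Type u)] (C : Type u)).toRingHom rfl
  obtain ⟨α, hαl, hα⟩ := exists_lift (O := Localization.AtPrime pA) (R := RS)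
    ((algebraMap (Localization.AtPrime pB) RS').comp φB)
  obtain ⟨γ, hγl, hγ⟩ := exists_lift (O := Localization.AtPrime pC) (R := RX)
    ((algebraMap (Localization.AtPrime pD) RX').comp φD)
  obtain ⟨ω, hωl, hω, hγω⟩ := exists_factor (O := Localization.AtPrime pA) (R := RS) φC
    ((algebraMap RS' RX').comp α) γ (by
      rw [RingHom.comp_assoc, hα, hγ]
      refine IsLocalization.ringHom_ext pA.primeCompl (RingHom.ext fun a => ?_)
      simp only [RingHom.comp_apply, φB, φC, φD, Localization.localRingHom_to_map]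
      show algebraMap RS' RX' (algebraMap B RS' (algebraMap A B a)) =
        algebraMap ((B : Type u) ⊗[(A : Type u)] (C : Type u)) RX' ((1 : B) ⊗ₜ[(A : Type u)] algebraMap A C a)
      refine (RingHom.congr_fun hψB (algebraMap A B a)).trans (congrArg (algebraMap ((B : Type u) ⊗[(A : Type u)] (C : Type u)) RX') ?_)
      show algebraMap A B a ⊗ₜ[(A : Type u)] (1 : C) = _
      rw [Algebra.algebraMap_eq_smul_one, Algebra.algebraMap_eq_smul_one, smul_tmul])
  letI : Algebra RS RS' := α.toAlgebra
  letI : Algebra RS RX := ω.toAlgebra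
  letI : Algebra RX RX' := γ.toAlgebra
  letI : Algebra RS RX' := ((algebraMap RS' RX').comp α).toAlgebra
  haveI : IsScalarTower RS RS' RX' := IsScalarTower.of_algebraMap_eq fun _ => rfl
  haveI : IsScalarTower RS RX RX' := IsScalarTower.of_algebraMap_eq' hγω.symm
  haveI : IsLocalHom (algebraMap RS RS') := hαl
  haveI : IsLocalHom (algebraMap RS RX) := hωl
  haveI : IsLocalHom (algebraMap RX RX') := hγl
  letI : Algebra A RS := ((algebraMap (Localization.AtPrime pA) RS).comp (algebraMap A (Localization.AtPrime pA))).toAlgebra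
  haveI : IsScalarTower A (Localization.AtPrime pA) RS := IsScalarTower.of_algebraMap_eq fun _ => rfl
  letI : Algebra A RS' := ((algebraMap B RS').comp (algebraMap A B)).toAlgebra
  haveI : IsScalarTower A B RS' := IsScalarTower.of_algebraMap_eq fun _ => rfl
  haveI : IsScalarTower A RS RS' := IsScalarTower.of_algebraMap_eq fun a => by
    show algebraMap B RS' (algebraMap A B a) = α (algebraMap (Localization.AtPrime pA) RS (algebraMap A _ a))
    rw [← RingHom.comp_apply α, hα, RingHom.comp_apply]
    simp only [φB, Localization.localRingHom_to_map]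
    rfl
  letI : Algebra C RX := ((algebraMap (Localization.AtPrime pC) RX).comp (algebraMap C (Localization.AtPrime pC))).toAlgebra
  haveI : IsScalarTower C (Localization.AtPrime pC) RX := IsScalarTower.of_algebraMap_eq fun _ => rfl
  letI : Algebra A RX := ((algebraMap C RX).comp (algebraMap A C)).toAlgebra
  haveI : IsScalarTower A C RX := IsScalarTower.of_algebraMap_eq fun _ => rfl
  haveI : IsScalarTower A RS RX := IsScalarTower.of_algebraMap_eq fun a => by
    show algebraMap C RX (algebraMap A C a) = ω (algebraMap (Localization.AtPrime pA) RS (algebraMap A _ a))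
    rw [← RingHom.comp_apply ω, hω, RingHom.comp_apply]
    simp only [φC, Localization.localRingHom_to_map]
    rfl
  letI : Algebra B RX' := ((algebraMap RS' RX').comp (algebraMap B RS')).toAlgebra
  haveI : IsScalarTower B RS' RX' := IsScalarTower.of_algebraMap_eq fun _ => rfl
  haveI : IsScalarTower B ((B : Type u) ⊗[(A : Type u)] (C : Type u)) RX' := IsScalarTower.of_algebraMap_eq' hψB
  have hC' : ∀ c : C, algebraMap RX RX' (algebraMap C RX c) =
      algebraMap ((B : Type u) ⊗[(A : Type u)] (C : Type u)) RX' ((1 : B) ⊗ₜ[(A : Type u)] c) := fun c => by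
    show γ (algebraMap (Localization.AtPrime pC) RX (algebraMap C _ c)) = _
    rw [← RingHom.comp_apply γ, hγ, RingHom.comp_apply]
    simp only [φD, Localization.localRingHom_to_map]
    rfl
  obtain ⟨_, _⟩ := StrictHensBCLib.integral_strictHenselization (R := (A : Type u)) (S := (B : Type u)) (p := pA) (q := pB)
    (Rh := RS) (Sh := RS') hB
  have hbij := StrictHensBCLib.bijective_lift (A : Type u) (B : Type u) (C : Type u) pB pC pD RS RS' RX RX' hC'
  -- local acyclicity at the point below
  obtain ⟨aS2, _, hshS2, hS2⟩ := exists_sh_of_equiv eA RS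
  obtain ⟨aX2, _, hshX2, hX2⟩ := exists_sh_of_equiv eC RX
  have hc : (algebraMap RS RX).comp (@algebraMap (S.presheaf.stalk (f.base x)) RS _ _ aS2) =
      (@algebraMap (X.presheaf.stalk x) RX _ _ aX2).comp (f.stalkMap x).hom := by
    refine eq_of_spec (S.fromSpecStalk (f.base x)) _ _ ?_
    rw [CommRingCat.ofHom_comp, CommRingCat.ofHom_comp, Spec.map_comp, Spec.map_comp, Category.assoc, Category.assoc,
      CommRingCat.ofHom_hom, Scheme.SpecMap_stalkMap_fromSpecStalk, hS2, hX2, CommRingCat.ofHom_comp, CommRingCat.ofHom_comp,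
      Spec.map_comp, Spec.map_comp, Category.assoc, Category.assoc, heA, reassoc_of% heC, ← sqC]
    simp only [← Category.assoc, ← Spec.map_comp, ← CommRingCat.ofHom_comp]
    refine congrArg (fun m => Spec.map (CommRingCat.ofHom m) ≫ hU.fromSpec) (RingHom.ext fun a => ?_)
    show algebraMap RS RX (algebraMap A RS a) = algebraMap C RX (algebraMap A C a)
    rw [← IsScalarTower.algebraMap_apply A RS RX, ← IsScalarTower.algebraMap_apply A C RX]
  have hnx : (n : X.residueField x) ≠ 0 := fun h => hn (by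
    rw [← map_natCast ((pullback.fst f g).residueFieldMap z).hom n, h, map_zero])
  letI : Algebra RS Ω := ((algebraMap RS' Ω).comp α).toAlgebra
  haveI : IsScalarTower RS RS' Ω := IsScalarTower.of_algebraMap_eq fun _ => rfl
  letI := aS2
  letI := aX2
  obtain ⟨h1, ⟨h2⟩⟩ := hf x RS RX hc Ω n hnx
  obtain ⟨E⟩ := nonempty_vcRing_equiv (RS := RS) (RX := RX) (RS' := RS') (RX' := RX') (Ω := Ω) hbij
  let iso : Spec (CommRingCat.of (EtRest.vcRing RS' RX' Ω)) ≅ Spec (CommRingCat.of (EtRest.vcRing RS RX Ω)) :=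
    Scheme.Spec.mapIso (RingEquiv.toCommRingCatIso E).op
  refine ⟨fun q hq => ?_, ⟨(nonempty_H_const_equiv iso n 0).some.trans h2⟩⟩
  haveI := h1 q hq
  exact (nonempty_H_const_equiv iso n q).some.toEquiv.subsingleton

end LocAcycBCLib
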