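import Groth.Agent.StrictHensBCLib.Integral
import Groth.Prelude.Def_EtRestW
import Mathlib.FieldTheory.IsSepClosed

/-! Maps between strict henselizations. -/

set_option autoImplicit false
set_option linter.style.haveILetI false
set_option maxHeartbeats 1000000
set_option synthInstance.maxHeartbeats 200000

universe u

open IsLocalRing Polynomial TensorProduct

namespace LocAcycBCLib

variable {O R T : Type u} [CommRing O] [IsLocalRing O] [CommRing R] [IsLocalRing R] [Algebra O R]
  [IsLocalHom (algebraMap O R)] [Hensel.IsStrictHenselization O R] [CommRing T] 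
  [HenselianLocalRing T]

/-- A local map to a strictly henselian local ring extends to the strict henselization. -/
theorem exists_lift [IsSepClosed (ResidueField T)] (f : O →+* T) [IsLocalHom f] :
    ∃ g : R →+* T, IsLocalHom g ∧ g.comp (algebraMap O R) = f := by
  haveI := (Hensel.IsStrictHenselization.isSepClosure (R := O) (S := R)).separable
  letI : Algebra (ResidueField O) (ResidueField T) := (ResidueField.map f).toAlgebra
  let τ : ResidueField R →ₐ[ResidueField O] ResidueField T := IsSepClosed.lift
  obtain ⟨g, ⟨hg, hgr⟩, -⟩ := Hensel.IsStrictHenselization.universal (R := O) (S := R) T f τ.toRingHom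
    (RingHom.ext fun x => τ.commutes x)
  refine ⟨g, ⟨fun r hr => ?_⟩, hg⟩
  by_contra h
  have h1 : residue T (g r) = 0 := by
    rw [hgr r, (residue_eq_zero_iff r).2 ((mem_maximalIdeal r).2 h), map_zero]
  exact (mem_maximalIdeal _).1 ((residue_eq_zero_iff _).1 h1) hr

/-- A map to a ring into which a second strict henselization maps factors through the latter. -/
theorem exists_factor {O1 R1 : Type u} [CommRing O1] [IsLocalRing O1] [CommRing R1] [IsLocalRing R1] [Algebra O1 R1]
    [IsLocalHom (algebraMap O1 R1)] [Hensel.IsStrictHenselization O1 R1]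
    (φ : O →+* O1) [IsLocalHom φ] (ψ : R →+* T) [IsLocalHom ψ] (ρ : R1 →+* T) [IsLocalHom ρ]
    (h : ψ.comp (algebraMap O R) = (ρ.comp (algebraMap O1 R1)).comp φ) :
    ∃ μ : R →+* R1, IsLocalHom μ ∧ μ.comp (algebraMap O R) = (algebraMap O1 R1).comp φ ∧ ρ.comp μ = ψ := by
  haveI := Hensel.IsStrictHenselization.henselian (R := O1) (S := R1)
  haveI := (Hensel.IsStrictHenselization.isSepClosure (R := O1) (S := R1)).sep_closed
  haveI := (Hensel.IsStrictHenselization.isSepClosure (R := O) (S := R)).separable
  let i : ResidueField O →+* ResidueField R1 := ResidueField.map ((algebraMap O1 R1).comp φ)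
  let ρb := ResidueField.map ρ
  let ψb := ResidueField.map ψ
  have hb : ∀ c, ψb (algebraMap (ResidueField O) (ResidueField R) c) = ρb (i c) := fun c => by
    obtain ⟨o, rfl⟩ := residue_surjective c
    exact congrArg (residue T) (RingHom.congr_fun h o)
  have hmem : ∀ z, ψb z ∈ ρb.range := fun z => by
    have hz : IsSeparable (ResidueField O) z := Algebra.IsSeparable.isSeparable (ResidueField O) z
    let P := minpoly (ResidueField O) z
    have hPs : (P.map i).Splits := IsSepClosed.splits_of_separable (P.map i) (Polynomial.Separable.map hz)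
    have hPm : (P.map i).Monic := (minpoly.monic hz.isIntegral).map i
    have h1 : ψb z ∈ ((P.map i).map ρb).roots := by
      rw [mem_roots (Polynomial.map_ne_zero hPm.ne_zero), IsRoot, Polynomial.map_map, Polynomial.eval_map]
      have h2 : (P.map (algebraMap (ResidueField O) (ResidueField R))).eval z = 0 := by
        rw [eval_map, ← aeval_def]; exact minpoly.aeval _ _
      have h3 := congrArg ψb h2
      rw [map_zero, eval_map, hom_eval₂] at h3
      rwa [show ρb.comp i = ψb.comp (algebraMap (ResidueField O) (ResidueField R)) from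
        RingHom.ext fun c => (hb c).symm]
    rw [hPs.roots_map ρb, Multiset.mem_map] at h1
    obtain ⟨w, -, hw⟩ := h1
    exact ⟨w, hw⟩
  let τ : ResidueField R →+* ResidueField R1 :=
    (RingEquiv.ofBijective ρb.rangeRestrict ⟨fun a b hab => ρb.injective (congrArg Subtype.val hab),
      ρb.rangeRestrict_surjective⟩).symm.toRingHom.comp (ψb.codRestrict ρb.range hmem)
  have hτ : ∀ z, ρb (τ z) = ψb z := fun z =>
    congrArg Subtype.val ((RingEquiv.ofBijective ρb.rangeRestrict ⟨fun a b hab => ρb.injective (congrArg Subtype.val hab),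
      ρb.rangeRestrict_surjective⟩).apply_symm_apply ⟨ψb z, hmem z⟩)
  obtain ⟨μ, ⟨hμ, hμr⟩, -⟩ := Hensel.IsStrictHenselization.universal (R := O) (S := R) R1
    ((algebraMap O1 R1).comp φ) τ (RingHom.ext fun c => ρb.injective ((hτ _).trans (hb c)))
  have hl : IsLocalHom μ := ⟨fun r hr => by
    by_contra hn
    have h1 : residue R1 (μ r) = 0 := by
      rw [hμr r, (residue_eq_zero_iff r).2 ((mem_maximalIdeal r).2 hn), map_zero]
    exact (mem_maximalIdeal _).1 ((residue_eq_zero_iff _).1 h1) hr⟩
  refine ⟨μ, hl, hμ, StrictHensBCLib.strict_hom_ext (R := O) _ _ (fun o => ?_) fun r => ?_⟩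
  · show ρ (μ (algebraMap O R o)) = ψ (algebraMap O R o)
    rw [show μ (algebraMap O R o) = _ from RingHom.congr_fun hμ o]
    exact (RingHom.congr_fun h o).symm
  · show ρb (residue R1 (μ r)) = ψb (residue R r)
    rw [hμr r, hτ]

/-- The ring of vanishing cycles does not change. -/
theorem nonempty_vcRing_equiv {RS RX RS' RX' Ω : Type u} [CommRing RS] [CommRing RX] [CommRing RS'] [CommRing RX']
    [CommRing Ω] [Algebra RS RX] [Algebra RS RS'] [Algebra RS' RX'] [Algebra RX RX'] [Algebra RS RX']
    [IsScalarTower RS RS' RX'] [IsScalarTower RS RX RX'] [Algebra RS' Ω] [Algebra RS Ω] [IsScalarTower RS RS' Ω]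
    (h : Function.Bijective (Algebra.TensorProduct.lift (IsScalarTower.toAlgHom RS RS' RX')
      (IsScalarTower.toAlgHom RS RX RX') (fun _ _ => Commute.all _ _))) :
    Nonempty (EtRest.vcRing RS RX Ω ≃+* EtRest.vcRing RS' RX' Ω) := by
  let L : RS' ⊗[RS] RX →ₐ[RS'] RX' := Algebra.TensorProduct.lift (Algebra.ofId RS' RX')
    (IsScalarTower.toAlgHom RS RX RX') (fun _ _ => Commute.all _ _)
  have hL : ⇑L = ⇑(Algebra.TensorProduct.lift (IsScalarTower.toAlgHom RS RS' RX')
      (IsScalarTower.toAlgHom RS RX RX') (fun _ _ => Commute.all _ _)) := by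
    funext x
    induction x using TensorProduct.induction_on with
    | zero => simp
    | add x y hx hy => simp only [map_add, hx, hy]
    | tmul a b => simp [L]
  let e : RS' ⊗[RS] RX ≃ₐ[RS'] RX' := AlgEquiv.ofBijective L (hL ▸ h)
  exact ⟨(Algebra.TensorProduct.comm RS RX Ω).toRingEquiv.trans
    ((Algebra.TensorProduct.cancelBaseChange RS RS' RS' Ω RX).symm.toRingEquiv.trans
      ((Algebra.TensorProduct.congr (AlgEquiv.refl : Ω ≃ₐ[RS'] Ω) e).toRingEquiv.trans
        (Algebra.TensorProduct.comm RS' Ω RX').toRingEquiv))⟩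

end LocAcycBCLib
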