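import Groth.Agent.LocAcycBCLib.Alg
import Groth.Agent.S0537
import Groth.Prelude.Def_EtAcyc

/-! Properties of strict localisations and composition. -/

set_option autoImplicit false
set_option linter.style.haveILetI false
set_option backward.isDefEq.respectTransparency false
set_option backward.isDefEq.respectTransparency.types false
set_option maxHeartbeats 1000000

universe u

open CategoryTheory AlgebraicGeometry

namespace LocAcycBCLib

theorem onStrictLocalizations_comp_iff {X Y Z : Scheme.{u}} (g : X ⟶ Y) (h : Y ⟶ Z)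
    (hs : Function.Surjective g.base) (P Q : ∀ ⦃X' Y' : Scheme.{u}⦄, (X' ⟶ Y') → Prop)
    (hPQ : ∀ ⦃A B C : Scheme.{u}⦄ (a : A ⟶ B) (b : B ⟶ C), P a → (Q b ↔ Q (a ≫ b)))
    (hg : EtAcyc.OnStrictLocalizations g P) :
    EtAcyc.OnStrictLocalizations h Q ↔ EtAcyc.OnStrictLocalizations (g ≫ h) Q := by
  constructor
  · intro hh x RZ RX _ _ _ _ aZ lZ hZ aX _ hX algZX _ hc
    obtain ⟨RY, cY, lY, aY, hlY, hY⟩ := Groth.Agent.S0537.result (Y.presheaf.stalk (g.base x))
    haveI := hX.henselian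
    haveI := hX.isSepClosure.sep_closed
    obtain ⟨ρ, hρl, hρ⟩ := exists_lift (O := Y.presheaf.stalk (g.base x)) (R := RY)
      ((algebraMap (X.presheaf.stalk x) RX).comp (g.stalkMap x).hom)
    obtain ⟨μ, hμl, hμ, hρμ⟩ := exists_factor (O := Z.presheaf.stalk ((g ≫ h).base x)) (R := RZ)
      (O1 := Y.presheaf.stalk (g.base x)) (h.stalkMap (g.base x)).hom (algebraMap RZ RX) ρ (by
        rw [hρ, hc, Scheme.Hom.stalkMap_comp]
        rfl)
    letI : Algebra RY RX := ρ.toAlgebra
    letI : Algebra RZ RY := μ.toAlgebra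
    haveI : IsLocalHom (algebraMap RY RX) := hρl
    haveI : IsLocalHom (algebraMap RZ RY) := hμl
    have h1 := hg x RY RX hρ
    have h2 := @hh (g.base x) RZ RY _ _ _ _ aZ lZ hZ aY hlY hY _ _ hμ
    have h3 := (hPQ _ _ h1).1 h2
    rw [← Spec.map_comp, ← CommRingCat.ofHom_comp,
      show (algebraMap RY RX).comp (algebraMap RZ RY) = algebraMap RZ RX from hρμ] at h3
    exact h3
  · intro hgh y RZ RY _ _ _ _ aZ lZ hZ aY _ hY algZY _ hc
    obtain ⟨x, rfl⟩ := hs y
    obtain ⟨RX, cX, lX, aX, hlX, hX⟩ := Groth.Agent.S0537.result (X.presheaf.stalk x)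
    haveI := hX.henselian
    haveI := hX.isSepClosure.sep_closed
    obtain ⟨ρ, hρl, hρ⟩ := exists_lift (O := Y.presheaf.stalk (g.base x)) (R := RY)
      ((algebraMap (X.presheaf.stalk x) RX).comp (g.stalkMap x).hom)
    letI : Algebra RY RX := ρ.toAlgebra
    letI : Algebra RZ RX := (ρ.comp (algebraMap RZ RY)).toAlgebra
    haveI : IsLocalHom (algebraMap RY RX) := hρl
    haveI : IsLocalHom (algebraMap RZ RX) := inferInstanceAs (IsLocalHom (ρ.comp (algebraMap RZ RY)))
    have h1 := hg x RY RX hρ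
    have h2 := @hgh x RZ RX _ _ _ _ aZ lZ hZ aX hlX hX _ _ (by
      refine ((RingHom.comp_assoc _ _ _).trans (congrArg ρ.comp hc)).trans ?_
      rw [← RingHom.comp_assoc, hρ, Scheme.Hom.stalkMap_comp]
      rfl)
    refine (hPQ _ _ h1).2 ?_
    rw [← Spec.map_comp, ← CommRingCat.ofHom_comp]
    exact h2

end LocAcycBCLib
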